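import Groth.Agent.DvrDom.Valuative
import Groth.Agent.FpqcDescent.Immersion
import Groth.Agent.S2334
import Groth.Agent.S0384

/-!
Valuative criteria that test only generic points coming from a dense quasi-compact `U → X`.
-/

set_option autoImplicit false
set_option backward.isDefEq.respectTransparency false
universe u

open CategoryTheory CategoryTheory.Limits AlgebraicGeometry IsLocalRing

namespace Groth.Agent.DenseVal

open Groth.Agent.DvrDom (genericMap)

/-- A point in the closure of the image of `g` but not in the image is hit by a DVR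
whose generic point factors through `g`. -/
theorem exists_dvr_of_mem_closure {U P : Scheme.{u}} [IsLocallyNoetherian P] (g : U ⟶ P) [LocallyOfFiniteType g]
    [QuasiCompact g] {p : P} (hp : p ∈ closure (Set.range g)) (hnot : p ∉ Set.range g) :
    ∃ (A : Type u) (_ : CommRing A) (_ : IsDomain A) (_ : IsDiscreteValuationRing A)
      (u : Spec (CommRingCat.of (FractionRing A)) ⟶ U) (φ : Spec (CommRingCat.of A) ⟶ P),
      genericMap A ≫ φ = u ≫ g ∧ φ (closedPoint A) = p := by
  obtain ⟨y, hy⟩ := FpqcDescent.exists_specializes_of_mem_closure g hp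
  obtain ⟨W, φ, hW, hφ, hsq⟩ := DvrDom.exists_dvr_through g y p hy fun e => hnot ⟨y, e.symm⟩
  obtain ⟨e, he, hcomp⟩ := DvrDom.exists_iso_fractionRing W
  refine ⟨W, inferInstance, inferInstance, hW, e ≫ U.fromSpecResidueField y, φ, ?_, hφ⟩
  rw [← hcomp, Category.assoc, hsq, Category.assoc]

theorem closure_range_comp {U X P : Scheme.{u}} (h : U ⟶ X) (hd : DenseRange h.base) (j : X ⟶ P) :
    closure (Set.range j) ⊆ closure (Set.range (h ≫ j)) := by
  refine closure_minimal ?_ isClosed_closure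
  rintro _ ⟨x, rfl⟩
  refine closure_mono ?_ (image_closure_subset_closure_image j.continuous ⟨x, hd x, rfl⟩)
  rintro _ ⟨_, ⟨v, rfl⟩, rfl⟩
  exact ⟨v, Scheme.Hom.comp_apply h j v⟩

theorem range_comp_subset {U X P : Scheme.{u}} (h : U ⟶ X) (j : X ⟶ P) :
    Set.range (h ≫ j) ⊆ Set.range j := by
  rintro _ ⟨v, rfl⟩
  exact ⟨h v, (Scheme.Hom.comp_apply h j v).symm⟩

variable {X S U : Scheme.{u}} [IsLocallyNoetherian S] (f : X ⟶ S) [LocallyOfFiniteType f] (h : U ⟶ X)
  [LocallyOfFiniteType h] [QuasiCompact h] (hd : DenseRange h.base)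

include hd in
theorem isSeparated_of_dvr (H : ∀ (A : Type u) [CommRing A] [IsDomain A] [IsDiscreteValuationRing A]
      (u : Spec (CommRingCat.of (FractionRing A)) ⟶ U) (y : Spec (CommRingCat.of A) ⟶ S),
      u ≫ h ≫ f = genericMap A ≫ y →
        ∀ l₁ l₂ : Spec (CommRingCat.of A) ⟶ X, l₁ ≫ f = y → genericMap A ≫ l₁ = u ≫ h →
          l₂ ≫ f = y → genericMap A ≫ l₂ = u ≫ h → l₁ = l₂) : IsSeparated f := by
  haveI : IsLocallyNoetherian X := LocallyOfFiniteType.isLocallyNoetherian f
  haveI : IsLocallyNoetherian (pullback f f) :=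
    LocallyOfFiniteType.isLocallyNoetherian (pullback.fst f f)
  haveI : QuasiSeparated f := inferInstance
  let Δ := pullback.diagonal f
  refine ⟨.of_isPreimmersion _ (isClosed_of_closure_subset fun p hp => ?_)⟩
  by_cases hin : p ∈ Set.range (h ≫ Δ)
  · exact range_comp_subset h Δ hin
  obtain ⟨A, _, _, _, u, φ, hu, hcl⟩ :=
    exists_dvr_of_mem_closure (h ≫ Δ) (closure_range_comp h hd Δ hp) hin
  have h1 : genericMap A ≫ φ ≫ pullback.fst f f = u ≫ h := by
    rw [reassoc_of% hu]; simp [Δ]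
  have h2 : genericMap A ≫ φ ≫ pullback.snd f f = u ≫ h := by
    rw [reassoc_of% hu]; simp [Δ]
  have h12 : φ ≫ pullback.fst f f = φ ≫ pullback.snd f f := by
    refine H A u ((φ ≫ pullback.fst f f) ≫ f) ?_ _ _ rfl h1 ?_ h2
    · rw [← reassoc_of% h1, Category.assoc]
    · simp [pullback.condition]
  refine ⟨(φ ≫ pullback.fst f f) (closedPoint A), ?_⟩
  have : φ = (φ ≫ pullback.fst f f) ≫ Δ := by
    apply pullback.hom_ext
    · simp [Δ]
    · simp [Δ, ← h12]
  rw [← hcl]
  exact (Scheme.Hom.comp_apply _ _ _).symm.trans (by rw [← this])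

include hd in
theorem isProper_of_dvr_of_isNoetherian [IsNoetherian S] [IsSeparated f] [QuasiCompact f]
    (H : ∀ (A : Type u) [CommRing A] [IsDomain A] [IsDiscreteValuationRing A]
      (u : Spec (CommRingCat.of (FractionRing A)) ⟶ U) (y : Spec (CommRingCat.of A) ⟶ S),
      u ≫ h ≫ f = genericMap A ≫ y →
        ∃ l : Spec (CommRingCat.of A) ⟶ X, l ≫ f = y ∧ genericMap A ≫ l = u ≫ h) : IsProper f := by
  obtain ⟨Xc, j, g, _, _, _, hjg⟩ := S0384.result f
  haveI : IsLocallyNoetherian Xc := LocallyOfFiniteType.isLocallyNoetherian g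
  suffices hcl : IsClosed (Set.range j) by
    haveI := IsClosedImmersion.of_isPreimmersion j hcl
    rw [← hjg]; infer_instance
  refine isClosed_of_closure_subset fun p hp => ?_
  by_cases hin : p ∈ Set.range (h ≫ j)
  · exact range_comp_subset h j hin
  obtain ⟨A, _, _, _, u, φ, hu, hcl⟩ :=
    exists_dvr_of_mem_closure (h ≫ j) (closure_range_comp h hd j hp) hin
  obtain ⟨l, hl1, hl2⟩ := H A u (φ ≫ g) (by rw [reassoc_of% hu, hjg])
  have : l ≫ j = φ := (S2334.result g).1 inferInstance A _ _ (by rw [Category.assoc, hjg, hl1])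
    (by rw [reassoc_of% hl2]; exact hu.symm)
  exact ⟨l (closedPoint A), by rw [← hcl, ← this, Scheme.Hom.comp_apply]⟩

include hd in
theorem isProper_of_dvr [IsSeparated f] [QuasiCompact f]
    (H : ∀ (A : Type u) [CommRing A] [IsDomain A] [IsDiscreteValuationRing A]
      (u : Spec (CommRingCat.of (FractionRing A)) ⟶ U) (y : Spec (CommRingCat.of A) ⟶ S),
      u ≫ h ≫ f = genericMap A ≫ y →
        ∃ l : Spec (CommRingCat.of A) ⟶ X, l ≫ f = y ∧ genericMap A ≫ l = u ≫ h) : IsProper f := by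
  refine IsZariskiLocalAtTarget.of_iSup_eq_top (P := @IsProper) (fun V : S.affineOpens => (V : S.Opens))
    (iSup_affineOpens_eq_top S) fun V => ?_
  haveI : CompactSpace (V : S.Opens).toScheme := isCompact_iff_compactSpace.mp V.2.isCompact
  haveI : IsNoetherian (V : S.Opens).toScheme := {}
  let f' := f ∣_ (V : S.Opens)
  let W := f ⁻¹ᵁ (V : S.Opens)
  let h' : (h ⁻¹ᵁ W).toScheme ⟶ W.toScheme := h ∣_ W
  haveI : QuasiCompact h' := inferInstanceAs (QuasiCompact (h ∣_ W))
  have hd' : DenseRange h'.base := by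
    intro w
    rw [W.ι.isEmbedding.closure_eq_preimage_closure_image, Set.mem_preimage]
    refine mem_closure_iff.mpr fun O hO hwO => ?_
    obtain ⟨v, hv1, hv2⟩ := hd.exists_mem_open (hO.inter W.isOpen) ⟨W.ι w, hwO, w.2⟩
    exact ⟨h v, hv1, h' ⟨v, hv2⟩, ⟨⟨v, hv2⟩, rfl⟩, by rw [← Scheme.Hom.comp_apply, morphismRestrict_ι]; rfl⟩
  refine isProper_of_dvr_of_isNoetherian f' h' hd' fun A _ _ _ u y hsq => ?_
  obtain ⟨l, hl1, hl2⟩ := H A (u ≫ (h ⁻¹ᵁ W).ι) (y ≫ (V : S.Opens).ι) (by
    rw [← reassoc_of% hsq, Category.assoc, morphismRestrict_ι, morphismRestrict_ι_assoc])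
  have hr : Set.range l ⊆ Set.range W.ι := by
    rintro _ ⟨a, rfl⟩
    rw [Scheme.Opens.range_ι]
    show f (l a) ∈ (V : S.Opens)
    rw [← Scheme.Hom.comp_apply, hl1, Scheme.Hom.comp_apply]
    exact (y a).2
  refine ⟨IsOpenImmersion.lift W.ι l hr, ?_, ?_⟩
  · rw [← cancel_mono (V : S.Opens).ι, Category.assoc, morphismRestrict_ι, IsOpenImmersion.lift_fac_assoc, hl1]
  · rw [← cancel_mono W.ι, Category.assoc, IsOpenImmersion.lift_fac, hl2, Category.assoc, Category.assoc,
      morphismRestrict_ι]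

end Groth.Agent.DenseVal
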